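import Groth.Agent.Lefpen.H705.HypSmooth
import Groth.Agent.Lefpen.H287.CINonempty
import Groth.Agent.Lefpen.H21.CiBase
import Groth.Agent.Fano.K695.LineFwd
import Groth.Agent.HypSq.K980.Setup
import Groth.Agent.Dix.K280.CurveModel
import Mathlib.FieldTheory.IsAlgClosed.AlgebraicClosure

/-!
# The surface `F(x, y) = G(z, w)` of two separable binary forms

* `geometricallyIntegral_hyp`: a smooth hypersurface of `P^n`, `n ≥ 3`, is geometrically integral;
* `smooth_bin`: the surface `F(x, y) = G(z, w)` is smooth in characteristic zero;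
* `main`: the surface of S17416 is smooth, geometrically integral and projective.
-/

set_option autoImplicit false
universe u
open CategoryTheory CategoryTheory.Limits AlgebraicGeometry TopologicalSpace

namespace K464.BinSurf

open Groth.Agent LefPen

section Hyp

variable {k : Type u} [Field k]

/-- A hypersurface of `P^(n+1)` is not empty. -/
theorem nonempty_ci (n : ℕ) {d : ℕ} (hd : 1 ≤ d) (G : Fin 1 → Form (n + 1) k d) : Nonempty (ciIdeal G).subscheme := by
  obtain ⟨x⟩ := Lefpen.H287.CINonempty.nonempty_ci (AlgebraicClosure k) n 1 (fun _ => d) (fun _ => hd)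
    (fun j => Lefpen.H21.CiBase.mapForm (algebraMap k (AlgebraicClosure k)) (G j))
  exact ⟨Lefpen.H21.CiBase.ciMap (algebraMap k (AlgebraicClosure k)) G
    (fun j => Lefpen.H21.CiBase.mapForm (algebraMap k (AlgebraicClosure k)) (G j)) (fun _ => rfl) x⟩

/-- A hypersurface of `P^n`, `n ≥ 1`, is not empty. -/
theorem nonempty_hyp {n d : ℕ} (hn : 1 ≤ n) (hd : 1 ≤ d) (F : Form n k d) : Nonempty (hypIdeal F).subscheme := by
  obtain ⟨n, rfl⟩ := Nat.exists_eq_add_of_le' hn
  rw [← K695.LineFwd.hyp_eq_ci F]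
  exact nonempty_ci n hd _

/-- A smooth hypersurface of `P^n`, `n ≥ 3`, is geometrically integral. -/
theorem geometricallyIntegral_hyp {n d : ℕ} (hn : 3 ≤ n) (hd : 1 ≤ d) (F : Form n k d) (hF : F.1 ≠ 0)
    [Smooth ((hypIdeal F).subschemeι ≫ CohB1.ProjSpace.toSpec n k)] :
    GeometricallyIntegral ((hypIdeal F).subschemeι ≫ CohB1.ProjSpace.toSpec n k) := by
  have hne : Nonempty (hypIdeal F).subscheme := nonempty_hyp (by omega) hd F
  have hdim := K695.LineFwd.dim_gen F _ (K695.LineFwd.hyp_eq_ci F) hF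
  have hconn : GeometricallyConnected ((hypIdeal F).subschemeι ≫ CohB1.ProjSpace.toSpec n k) :=
    K695.LineFwd.conn_gen F hn hd _ (K695.LineFwd.hyp_eq_ci F) hdim
  refine ⟨fun K _ y Z fst snd h => ?_⟩
  have h2 : ConnectedSpace Z := hconn.1 y fst snd h
  have h3 : Smooth snd := MorphismProperty.of_isPullback (P := @Smooth) h inferInstance
  exact K980.Setup.isIntegral_of_connected snd

end Hyp

section Form

variable {k : Type u} [Field k]

theorem mul_natCast_pow {K : Type u} [Field K] (x : K) (i : ℕ) : x * ((i : K) * x ^ (i - 1)) = (i : K) * x ^ i := by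
  rcases Nat.eq_zero_or_pos i with rfl | hi
  · simp
  · obtain ⟨j, rfl⟩ := Nat.exists_eq_add_of_le' hi
    rw [Nat.add_sub_cancel, pow_succ]
    ring

/-- A common zero of the partial derivatives of a separable binary form is zero. -/
theorem eq_zero_of_deriv {K : Type u} [Field K] [CharZero K] [Algebra k K] {d : ℕ} (hd : 2 ≤ d) (f : Polynomial k)
    (hf : f.natDegree = d) (hfs : f.Separable) (x y : K)
    (h1 : ∑ i ∈ Finset.range (d + 1), algebraMap k K (f.coeff i) * ((i : K) * x ^ (i - 1)) * y ^ (d - i) = 0)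
    (h2 : ∑ i ∈ Finset.range (d + 1), algebraMap k K (f.coeff i) * x ^ i * (((d - i : ℕ) : K) * y ^ (d - i - 1)) = 0) :
    x = 0 ∧ y = 0 := by
  have hd0 : (d : K) ≠ 0 := by
    rw [Nat.cast_ne_zero]
    omega
  have hF : ∑ i ∈ Finset.range (d + 1), algebraMap k K (f.coeff i) * x ^ i * y ^ (d - i) = 0 := by
    have h3 : (d : K) * ∑ i ∈ Finset.range (d + 1), algebraMap k K (f.coeff i) * x ^ i * y ^ (d - i) = x *
        (∑ i ∈ Finset.range (d + 1), algebraMap k K (f.coeff i) * ((i : K) * x ^ (i - 1)) * y ^ (d - i)) + y *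
        ∑ i ∈ Finset.range (d + 1), algebraMap k K (f.coeff i) * x ^ i * (((d - i : ℕ) : K) * y ^ (d - i - 1)) := by
      rw [Finset.mul_sum, Finset.mul_sum, Finset.mul_sum, ← Finset.sum_add_distrib]
      refine Finset.sum_congr rfl fun i hi => ?_
      have hid : i ≤ d := by
        rw [Finset.mem_range] at hi
        omega
      have h4 := mul_natCast_pow x i
      have h5 := mul_natCast_pow y (d - i)
      rw [Nat.cast_sub hid] at h5 ⊢
      linear_combination (-(algebraMap k K (f.coeff i)) * y ^ (d - i)) * h4 -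
        (algebraMap k K (f.coeff i)) * x ^ i * h5
    rw [h1, h2, mul_zero, mul_zero, add_zero] at h3
    exact (mul_eq_zero.1 h3).resolve_left hd0
  have hy : y = 0 := by
    by_contra hy
    set g : Polynomial K := f.map (algebraMap k K) with hg
    have hgd : g.natDegree = d := by rw [hg, Polynomial.natDegree_map, hf]
    have hgs : g.Separable := hfs.map
    have hxy : x = x / y * y := (div_mul_cancel₀ x hy).symm
    have h3 : g.eval (x / y) = 0 := by
      have h4 : y ^ d * g.eval (x / y) = 0 := by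
        rw [← hF, Polynomial.eval_eq_sum_range, hgd, Finset.mul_sum]
        refine Finset.sum_congr rfl fun i hi => ?_
        have hid : i ≤ d := by
          rw [Finset.mem_range] at hi
          omega
        obtain ⟨e, rfl⟩ := Nat.exists_eq_add_of_le hid
        rw [hg, Polynomial.coeff_map, Nat.add_sub_cancel_left, pow_add, div_pow]
        field_simp
      exact (mul_eq_zero.1 h4).resolve_left (pow_ne_zero _ hy)
    have h5 : (Polynomial.derivative g).eval (x / y) = 0 := by
      have h4 : y ^ (d - 1) * (Polynomial.derivative g).eval (x / y) = 0 := by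
        rw [← h1, Polynomial.derivative_eval, Polynomial.sum_over_range' g (by simp) (d + 1) (by omega),
          Finset.mul_sum]
        refine Finset.sum_congr rfl fun i hi => ?_
        have hid : i ≤ d := by
          rw [Finset.mem_range] at hi
          omega
        rw [hg, Polynomial.coeff_map]
        rcases Nat.eq_zero_or_pos i with rfl | hi0
        · simp
        · obtain ⟨j, rfl⟩ := Nat.exists_eq_add_of_le' hi0
          obtain ⟨e, rfl⟩ := Nat.exists_eq_add_of_le hid
          rw [Nat.add_sub_cancel_left, Nat.add_sub_cancel, show j + 1 + e - 1 = j + e from by omega, pow_add,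
            div_pow]
          field_simp
      exact (mul_eq_zero.1 h4).resolve_left (pow_ne_zero _ hy)
    obtain ⟨a, b, hab⟩ := hgs
    have h6 := congrArg (Polynomial.eval (x / y)) hab
    rw [Polynomial.eval_add, Polynomial.eval_mul, Polynomial.eval_mul, h3, h5, mul_zero, mul_zero, add_zero,
      Polynomial.eval_one] at h6
    exact zero_ne_one h6
  refine ⟨?_, hy⟩
  rw [Finset.sum_range_succ, Finset.sum_eq_zero, zero_add, Nat.sub_self, pow_zero, mul_one] at h1
  · have h3 : algebraMap k K (f.coeff d) ≠ 0 := by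
      rw [map_ne_zero, ← hf, Polynomial.coeff_natDegree, Polynomial.leadingCoeff_ne_zero]
      exact hfs.ne_zero
    exact pow_eq_zero_iff (by omega) |>.1 (((mul_eq_zero.1 ((mul_eq_zero.1 h1).resolve_left h3))).resolve_left hd0)
  · intro i hi
    rw [Finset.mem_range] at hi
    rw [hy, zero_pow (by omega), mul_zero]

/-- The binary form of degree `d` in the variables `X a`, `X b` with dehomogenization `f`. -/
noncomputable def bin (f : Polynomial k) (d : ℕ) (a b : Fin 4) : MvPolynomial (Fin 4) k :=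
  ∑ i ∈ Finset.range (d + 1), MvPolynomial.C (f.coeff i) * MvPolynomial.X a ^ i * MvPolynomial.X b ^ (d - i)

theorem pderiv_fst (f : Polynomial k) (d : ℕ) {a b : Fin 4} (hab : a ≠ b) :
    MvPolynomial.pderiv a (bin f d a b) = ∑ i ∈ Finset.range (d + 1), MvPolynomial.C (f.coeff i) *
      ((i : MvPolynomial (Fin 4) k) * MvPolynomial.X a ^ (i - 1)) * MvPolynomial.X b ^ (d - i) := by
  rw [bin, map_sum]
  refine Finset.sum_congr rfl fun i _ => ?_
  rw [Derivation.leibniz, Derivation.leibniz, Derivation.leibniz_pow, Derivation.leibniz_pow,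
    MvPolynomial.pderiv_X_self, MvPolynomial.pderiv_X_of_ne hab.symm, MvPolynomial.pderiv_C]
  simp only [smul_zero, smul_eq_mul, mul_one, add_zero, nsmul_eq_mul, mul_zero, zero_add]
  ring

theorem pderiv_snd (f : Polynomial k) (d : ℕ) {a b : Fin 4} (hab : a ≠ b) :
    MvPolynomial.pderiv b (bin f d a b) = ∑ i ∈ Finset.range (d + 1), MvPolynomial.C (f.coeff i) *
      MvPolynomial.X a ^ i * (((d - i : ℕ) : MvPolynomial (Fin 4) k) * MvPolynomial.X b ^ (d - i - 1)) := by
  rw [bin, map_sum]
  refine Finset.sum_congr rfl fun i _ => ?_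
  rw [Derivation.leibniz, Derivation.leibniz, Derivation.leibniz_pow, Derivation.leibniz_pow,
    MvPolynomial.pderiv_X_self, MvPolynomial.pderiv_X_of_ne hab, MvPolynomial.pderiv_C]
  simp only [smul_zero, smul_eq_mul, mul_one, add_zero, nsmul_eq_mul, mul_zero]

theorem pderiv_other (f : Polynomial k) (d : ℕ) {a b c : Fin 4} (hac : a ≠ c) (hbc : b ≠ c) :
    MvPolynomial.pderiv c (bin f d a b) = 0 := by
  rw [bin, map_sum]
  refine Finset.sum_eq_zero fun i _ => ?_
  rw [Derivation.leibniz, Derivation.leibniz, Derivation.leibniz_pow, Derivation.leibniz_pow,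
    MvPolynomial.pderiv_X_of_ne hac, MvPolynomial.pderiv_X_of_ne hbc, MvPolynomial.pderiv_C]
  simp only [smul_zero, add_zero]

/-- A prime ideal containing the partial derivatives of a separable binary form contains the two variables. -/
theorem X_mem_of_pderiv_mem [CharZero k] {d : ℕ} (hd : 2 ≤ d) (f : Polynomial k) (hf : f.natDegree = d)
    (hfs : f.Separable) {a b : Fin 4} (hab : a ≠ b) (P : Ideal (MvPolynomial (Fin 4) k)) [P.IsPrime]
    (ha : MvPolynomial.pderiv a (bin f d a b) ∈ P) (hb : MvPolynomial.pderiv b (bin f d a b) ∈ P) :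
    MvPolynomial.X a ∈ P ∧ MvPolynomial.X b ∈ P := by
  let K := FractionRing (MvPolynomial (Fin 4) k ⧸ P)
  let φ : MvPolynomial (Fin 4) k →ₐ[k] K := IsScalarTower.toAlgHom k (MvPolynomial (Fin 4) k) K
  have hφ : ∀ q, φ q = 0 ↔ q ∈ P := by
    intro q
    change algebraMap (MvPolynomial (Fin 4) k) K q = 0 ↔ q ∈ P
    rw [IsScalarTower.algebraMap_apply (MvPolynomial (Fin 4) k) (MvPolynomial (Fin 4) k ⧸ P) K,
      (IsFractionRing.injective (MvPolynomial (Fin 4) k ⧸ P) K).eq_iff' (map_zero _)]
    exact Ideal.Quotient.eq_zero_iff_mem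
  have : CharZero K := charZero_of_injective_algebraMap (algebraMap k K).injective
  have hC : ∀ c, φ (MvPolynomial.C c) = algebraMap k K c := fun c => φ.commutes c
  rw [← hφ, pderiv_fst f d hab, map_sum] at ha
  rw [← hφ, pderiv_snd f d hab, map_sum] at hb
  simp only [map_mul, map_pow, map_natCast, hC] at ha hb
  obtain ⟨h1, h2⟩ := eq_zero_of_deriv hd f hf hfs _ _ ha hb
  exact ⟨(hφ _).1 h1, (hφ _).1 h2⟩

variable [CharZero k] {d : ℕ} (hd : 2 ≤ d) (f g : Polynomial k) (hf : f.natDegree = d) (hfs : f.Separable)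
    (hg : g.natDegree = d) (hgs : g.Separable) (H : LefPen.Form 3 k d)
    (hH : (H : MvPolynomial (Fin 4) k) =
      (∑ i ∈ Finset.range (d + 1), MvPolynomial.C (f.coeff i) * MvPolynomial.X 0 ^ i * MvPolynomial.X 1 ^ (d - i)) -
      (∑ i ∈ Finset.range (d + 1), MvPolynomial.C (g.coeff i) * MvPolynomial.X 2 ^ i * MvPolynomial.X 3 ^ (d - i)))

include hd hf hfs hg hgs hH

/-- The surface `F(x, y) = G(z, w)` is smooth. -/
theorem smooth_bin : Smooth ((hypIdeal H).subschemeι ≫ CohB1.ProjSpace.toSpec 3 k) := by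
  have hH' : (H : MvPolynomial (Fin 4) k) = bin f d 0 1 - bin g d 2 3 := hH
  apply Lefpen.H705.HypSmooth.smooth_hyp_of_X_pow_mem
  have key : ∀ P : Ideal (MvPolynomial (Fin 4) k), P.IsPrime →
      Ideal.span ({H.1} ∪ Set.range fun i => MvPolynomial.pderiv i H.1) ≤ P → ∀ j, MvPolynomial.X j ∈ P := by
    intro P hP hle
    have h1 : ∀ i, MvPolynomial.pderiv i H.1 ∈ P := fun i => hle (Ideal.subset_span (Or.inr ⟨i, rfl⟩))
    have h01 : ∀ c : Fin 4, c ≠ 2 → c ≠ 3 → MvPolynomial.pderiv c (bin f d 0 1) ∈ P := by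
      intro c h2 h3
      have h4 := h1 c
      rw [hH', map_sub, pderiv_other g d h2.symm h3.symm, sub_zero] at h4
      exact h4
    have h23 : ∀ c : Fin 4, c ≠ 0 → c ≠ 1 → MvPolynomial.pderiv c (bin g d 2 3) ∈ P := by
      intro c h2 h3
      have h4 := h1 c
      rw [hH', map_sub, pderiv_other f d h2.symm h3.symm, zero_sub] at h4
      exact neg_mem_iff.1 h4
    obtain ⟨h0, h1'⟩ := X_mem_of_pderiv_mem hd f hf hfs (a := 0) (b := 1) (by decide) P
      (h01 0 (by decide) (by decide)) (h01 1 (by decide) (by decide))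
    obtain ⟨h2, h3⟩ := X_mem_of_pderiv_mem hd g hg hgs (a := 2) (b := 3) (by decide) P
      (h23 2 (by decide) (by decide)) (h23 3 (by decide) (by decide))
    intro j
    fin_cases j
    · exact h0
    · exact h1'
    · exact h2
    · exact h3
  intro j
  have h1 : MvPolynomial.X j ∈ (Ideal.span ({H.1} ∪ Set.range fun i => MvPolynomial.pderiv i H.1)).radical := by
    rw [Ideal.radical_eq_sInf, Submodule.mem_sInf]
    rintro P ⟨hle, hP⟩
    exact key P hP hle j
  exact h1

/-- The surface of S17416 is smooth, geometrically integral and projective. -/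
theorem main : Smooth ((hypIdeal H).subschemeι ≫ CohB1.ProjSpace.toSpec 3 k) ∧
    GeometricallyIntegral ((hypIdeal H).subschemeι ≫ CohB1.ProjSpace.toSpec 3 k) ∧
    Neron.IsProjectiveOver k (Over.mk ((hypIdeal H).subschemeι ≫ CohB1.ProjSpace.toSpec 3 k)) ∧ H ≠ 0 := by
  have h1 := smooth_bin hd f g hf hfs hg hgs H hH
  have hH0 : H.1 ≠ 0 := by
    intro h0
    have hP : (⊥ : Ideal (MvPolynomial (Fin 4) k)).IsPrime := Ideal.isPrime_bot
    have hH' : (H : MvPolynomial (Fin 4) k) = bin f d 0 1 - bin g d 2 3 := hH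
    have h4 : ∀ c : Fin 4, c ≠ 2 → c ≠ 3 → MvPolynomial.pderiv c (bin f d 0 1) ∈
        (⊥ : Ideal (MvPolynomial (Fin 4) k)) := by
      intro c h2 h3
      have h4 : MvPolynomial.pderiv c (bin f d 0 1 - bin g d 2 3) = 0 := by rw [← hH', h0, map_zero]
      rw [map_sub, pderiv_other g d h2.symm h3.symm, sub_zero] at h4
      exact h4
    have h5 := (X_mem_of_pderiv_mem hd f hf hfs (a := 0) (b := 1) (by decide) ⊥
      (h4 0 (by decide) (by decide)) (h4 1 (by decide) (by decide))).1
    exact MvPolynomial.X_ne_zero 0 h5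
  exact ⟨h1, geometricallyIntegral_hyp le_rfl (by omega) H hH0,
    K280.CurveModel.isProjectiveOver_of_projSpace _ 3 (hypIdeal H).subschemeι rfl, fun h => hH0 (by rw [h]; rfl)⟩

end Form

end K464.BinSurf
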