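import Groth.Agent.TwC.K776.NSFree
import Groth.Agent.S4037
import Groth.Agent.S4282
import Groth.Agent.Lefpen.H608.CIH1
import Groth.Agent.Lefpen.H21.CiBase
import Groth.Agent.CurvesA.H1GmPicSurj
import Groth.Prelude.Def_SGA7I

/-!
# The Picard group of a smooth surface in projective three-space

* `pic_ci`: over an algebraically closed field the Picard group of a smooth complete intersection surface is finitely
  generated and torsion free;
* `h1Gm_bcField`: for a smooth surface `X = V_+(H)` in `P³_k` and an algebraically closed field `Ω` over `k`, the group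
  `H¹(X_Ω, G_m)` is finitely generated and torsion free.
-/

set_option autoImplicit false
universe u
open CategoryTheory CategoryTheory.Limits AlgebraicGeometry

namespace K464.PicSurf

open Groth.Agent Groth.Agent.Grpsch.PicGrp LefPen Groth.Agent.CurvesA.H1GmPic

/-- The Picard group is finitely generated and torsion free. -/
def Good (X : Scheme.{u}) : Prop :=
  (∃ (p : ℕ) (g : Fin p → Pic X), Subgroup.closure (Set.range g) = ⊤) ∧
    ∀ (c : Pic X) (n : ℕ), 0 < n → c ^ n = 1 → c = 1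

/-- The Picard group of a smooth complete intersection surface over an algebraically closed field. -/
theorem pic_ci {Ω : Type u} [Field Ω] [IsAlgClosed Ω] (d : ℕ) (hd : 1 ≤ d) (a : Fin d → ℕ) (ha : ∀ j, 1 ≤ a j)
    (G : ∀ j : Fin d, Form (2 + d) Ω (a j))
    [hs : SmoothOfRelativeDimension 2 ((ciIdeal G).subschemeι ≫ CohB1.ProjSpace.toSpec (2 + d) Ω)] :
    Good (ciIdeal G).subscheme := by
  have hpr : IsProper (CohB1.ProjSpace.toSpec (2 + d) Ω) := Ega3B.ProjProper.isProper_toSpec (2 + d) Ω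
  let _ : (ciIdeal G).subscheme.Over (Spec (CommRingCat.of Ω)) :=
    ⟨(ciIdeal G).subschemeι ≫ CohB1.ProjSpace.toSpec (2 + d) Ω⟩
  have hX : IsProper ((ciIdeal G).subscheme ↘ Spec (CommRingCat.of Ω)) :=
    inferInstanceAs (IsProper ((ciIdeal G).subschemeι ≫ CohB1.ProjSpace.toSpec (2 + d) Ω))
  have h1 : Subsingleton (Coh.HH (ciIdeal G).subscheme (Coh.structureModule (ciIdeal G).subscheme) 1) :=
    Lefpen.H608.CIH1.subsingleton_HH_of_smooth (k := Ω) G (n := 2) rfl ha 1 one_pos one_lt_two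
  refine ⟨K776.NSFree.closure_eq_top Ω _ h1 (Groth.Agent.S4282.result Ω _), ?_⟩
  intro c n hn hc
  obtain ⟨L, hL, rfl⟩ := exists_mk c
  rw [← mk_tensorPow hL n, mk_eq_one_iff] at hc
  exact (mk_eq_one_iff hL).2 ((Groth.Agent.S4037.result Ω d hd a ha G).1 L hL n hn hc)

theorem Good.of_iso {X Y : Scheme.{u}} (h : Good X) (e : Y ≅ X) : Good Y := by
  obtain ⟨⟨p, g, hg⟩, h2⟩ := h
  have h3 : ∀ c : Pic Y, pull e.hom (pull e.inv c) = c := fun c => by
    rw [← pull_comp, e.hom_inv_id, pull_id]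
  have h4 : ∀ c : Pic X, pull e.inv (pull e.hom c) = c := fun c => by
    rw [← pull_comp, e.inv_hom_id, pull_id]
  refine ⟨⟨p, fun i => pull e.hom (g i), ?_⟩, fun c n hn hc => ?_⟩
  · rw [Set.range_comp' (pull e.hom) g, ← MonoidHom.map_closure, hg, ← MonoidHom.range_eq_map, MonoidHom.range_eq_top]
    exact fun c => ⟨_, h3 c⟩
  · have h5 : pull e.inv c = 1 := h2 _ n hn (by rw [← map_pow, hc, map_one])
    rw [← h3 c, h5, map_one]

/-- Finite generation and torsion freeness in terms of étale cohomology. -/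
theorem Good.h1Gm {X : Scheme.{u}} (h : Good X) : AddGroup.FG (EtCoh.H X (EtCoh.Gm X) 1) ∧
    ∀ (n : ℕ) (x : EtCoh.H X (EtCoh.Gm X) 1), n • x = 0 → n = 0 ∨ x = 0 := by
  obtain ⟨⟨p, g, hg⟩, h2⟩ := h
  have h1 : Group.FG (Pic X) := Group.fg_iff.2 ⟨Set.range g, hg, Set.finite_range g⟩
  have h3 : AddGroup.FG (Additive (Pic X)) := GroupFG.iff_add_fg.1 h1
  refine ⟨AddGroup.fg_of_surjective (f := (picEquiv X).toAddMonoidHom) (picEquiv X).surjective, fun n x hx => ?_⟩
  rcases Nat.eq_zero_or_pos n with hn | hn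
  · exact Or.inl hn
  · right
    obtain ⟨c, rfl⟩ := (picEquiv X).surjective x
    have h4 : n • c = 0 := (picEquiv X).injective (by rw [map_nsmul, hx, map_zero])
    have h5 : Additive.toMul c = 1 := h2 _ n hn (by exact h4)
    have h6 : c = 0 := h5
    rw [h6, map_zero]

/-- The Picard group of a smooth complete intersection surface, over an algebraically closed extension. -/
theorem good_ci_bcField {k : Type u} [Field k] (Ω : Type u) [Field Ω] [Algebra k Ω] [IsAlgClosed Ω] (d : ℕ) (hd : 1 ≤ d)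
    (a : Fin d → ℕ) (ha : ∀ j, 1 ≤ a j) (G : ∀ j : Fin d, Form (2 + d) k (a j))
    (hs : SmoothOfRelativeDimension 2 ((ciIdeal G).subschemeι ≫ CohB1.ProjSpace.toSpec (2 + d) k)) :
    Good (SGA7.bcField Ω ((ciIdeal G).subschemeι ≫ CohB1.ProjSpace.toSpec (2 + d) k)) := by
  have hsq := Lefpen.H21.CiBase.isPullback_ciMap_toSpec (algebraMap k Ω) G
    (fun j => Lefpen.H21.CiBase.mapForm (algebraMap k Ω) (G j)) (fun _ => rfl)
  have hs2 : SmoothOfRelativeDimension 2
      ((ciIdeal fun j => Lefpen.H21.CiBase.mapForm (algebraMap k Ω) (G j)).subschemeι ≫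
        CohB1.ProjSpace.toSpec (2 + d) Ω) :=
    (smoothOfRelativeDimension_isStableUnderBaseChange 2).of_isPullback hsq hs
  exact (pic_ci (Ω := Ω) d hd a ha _).of_iso hsq.isoPullback.symm

/-- The property of an ideal on projective three-space. -/
def P (k : Type u) [Field k] (Ω : Type u) [Field Ω] [Algebra k Ω] (N : ℕ) (I : (CohB1.ProjSpace N k).IdealSheafData) :
    Prop :=
  SmoothOfRelativeDimension 2 (I.subschemeι ≫ CohB1.ProjSpace.toSpec N k) →
    Good (SGA7.bcField Ω (I.subschemeι ≫ CohB1.ProjSpace.toSpec N k))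

theorem P_hyp {k : Type u} [Field k] (Ω : Type u) [Field Ω] [Algebra k Ω] [IsAlgClosed Ω] {d : ℕ} (hd : 1 ≤ d)
    (H : Form (2 + 1) k d) : P k Ω (2 + 1) (hypIdeal H) := by
  have h1 : P k Ω (2 + 1) (ciIdeal fun _ : Fin 1 => H) := fun h =>
    good_ci_bcField Ω 1 le_rfl (fun _ => d) (fun _ => hd) (fun _ => H) h
  have h2 : (ciIdeal fun _ : Fin 1 => H) = hypIdeal H := ciSup_const
  rw [h2] at h1
  exact h1

/-- The Picard group of a smooth surface in projective three-space, over an algebraically closed extension. -/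
theorem good_bcField {k : Type u} [Field k] (Ω : Type u) [Field Ω] [Algebra k Ω] [IsAlgClosed Ω] {d : ℕ} (hd : 1 ≤ d)
    (H : Form 3 k d) [hs : SmoothOfRelativeDimension 2 ((hypIdeal H).subschemeι ≫ CohB1.ProjSpace.toSpec 3 k)] :
    Good (SGA7.bcField Ω ((hypIdeal H).subschemeι ≫ CohB1.ProjSpace.toSpec 3 k)) :=
  P_hyp Ω hd H hs

/-- `H¹(X_Ω, G_m)` of a smooth surface in projective three-space is finitely generated and torsion free. -/
theorem h1Gm_bcField {k : Type u} [Field k] (Ω : Type u) [Field Ω] [Algebra k Ω] [IsAlgClosed Ω] {d : ℕ} (hd : 1 ≤ d)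
    (H : Form 3 k d) [hs : SmoothOfRelativeDimension 2 ((hypIdeal H).subschemeι ≫ CohB1.ProjSpace.toSpec 3 k)] :
    AddGroup.FG (EtCoh.H (SGA7.bcField Ω ((hypIdeal H).subschemeι ≫ CohB1.ProjSpace.toSpec 3 k)) (EtCoh.Gm _) 1) ∧
    ∀ (n : ℕ) (x : EtCoh.H (SGA7.bcField Ω ((hypIdeal H).subschemeι ≫ CohB1.ProjSpace.toSpec 3 k)) (EtCoh.Gm _) 1),
      n • x = 0 → n = 0 ∨ x = 0 :=
  (good_bcField Ω hd H).h1Gm

end K464.PicSurf
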