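import Groth.Agent.Surf.K455.Pos
import Groth.Agent.Surf.K455.RelDim
import Groth.Agent.Curves.K420.PlaneNum
import Groth.Agent.Dix.K464.PicSurf

/-!
# Smooth hypersurfaces of projective space have relative dimension `n`

* `relDim_hyp`: a smooth hypersurface of `P^{n+1}` is smooth of relative dimension `n`.
* `h1Gm_bcField`: `K464.PicSurf.h1Gm_bcField` for a smooth surface in `P^3`.
-/

set_option autoImplicit false
universe u
open CategoryTheory CategoryTheory.Limits AlgebraicGeometry TopologicalSpace IsLocalRing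

namespace K464.HypDim

open Groth.Agent LefPen Groth.Agent.Ega2 Groth.Agent.Divis.CartierStalk Groth.Agent.Divis.CartierBasic

variable {k : Type u} [Field k]

/-- The local ring of an effective Cartier divisor at a closed point. -/
theorem le_dim_stalk {X : Scheme.{u}} [X.Over (Spec (CommRingCat.of k))]
    [IsProper (X ↘ Spec (CommRingCat.of k))] (n : ℕ)
    (hdim : ∀ Z ∈ irreducibleComponents (X : Type u), topologicalKrullDim Z = ((n + 1 : ℕ) : WithBot ℕ∞))
    (D : X.IdealSheafData) (hD : BlowUp.IsEffCartierIdeal D) (z : D.subscheme) (hz : IsClosed ({z} : Set D.subscheme)) :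
    (n : WithBot ℕ∞) ≤ ringKrullDim (D.subscheme.presheaf.stalk z) := by
  have := Fga.IntAdd.isNoetherian k X
  have hxc : IsClosed ({D.subschemeι z} : Set X) := by
    have h1 := D.subschemeι.isClosedEmbedding.isClosedMap _ hz
    rwa [Set.image_singleton] at h1
  have h2 := K455.CMCut.le_ringKrullDim_stalk k X (n + 1) hdim (D.subschemeι z) hxc
  obtain ⟨f, hf, hIf⟩ := exists_stalkIdeal_eq_span hD (D.subschemeι z)
  have hx : D.subschemeι z ∈ D.support := by
    have h1 : D.subschemeι z ∈ (D.support : Set X) := by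
      rw [← Scheme.IdealSheafData.range_subschemeι]
      exact ⟨z, rfl⟩
    exact h1
  have hfm : f ∈ maximalIdeal (X.presheaf.stalk (D.subschemeι z)) := by
    have h1 := (mem_support_iff_stalkIdeal_le D _).1 hx
    rw [hIf] at h1
    exact h1 (Ideal.mem_span_singleton_self f)
  have h1 := Ideal.height_le_ringKrullDim_quotient_add_one hfm
  rw [IsLocalRing.maximalIdeal_height_eq_ringKrullDim] at h1
  have h3 : ringKrullDim (X.presheaf.stalk (D.subschemeι z) ⧸ Ideal.span {f}) =
      ringKrullDim (D.subscheme.presheaf.stalk z) := by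
    rw [← hIf]
    exact ringKrullDim_eq_of_ringEquiv (stalkQuotEquiv D z)
  rw [h3] at h1
  have h5 := h2.trans h1
  push_cast at h5
  exact K455.Pos.le_of_add_one_le h5

/-- A smooth hypersurface of `P^{n+1}` is smooth of relative dimension `n`. -/
theorem relDim_hyp {n d : ℕ} (F : Form (n + 1) k d) (hF : F ≠ 0)
    [hsm : Smooth ((hypIdeal F).subschemeι ≫ CohB1.ProjSpace.toSpec (n + 1) k)] :
    SmoothOfRelativeDimension n ((hypIdeal F).subschemeι ≫ CohB1.ProjSpace.toSpec (n + 1) k) := by
  have hirr : IsIntegral (CohB1.ProjSpace (n + 1) k) := Lefpen.H717.ProjIrr.isIntegral_projSpace (n + 1) k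
  have hdP : topologicalKrullDim (CohB1.ProjSpace (n + 1) k) = ((n + 1 : ℕ) : WithBot ℕ∞) := by
    have := K685.SetCI.dim_projSpace k (n + 1)
    exact_mod_cast this
  have hPp : IsProper (CohB1.ProjSpace (n + 1) k ↘ Spec (CommRingCat.of k)) :=
    inferInstanceAs (IsProper (CohB1.ProjSpace.toSpec (n + 1) k))
  have hNP := Fga.IntAdd.isNoetherian k (CohB1.ProjSpace (n + 1) k)
  have hcomp : ∀ Z ∈ irreducibleComponents (CohB1.ProjSpace (n + 1) k : Type u),
      topologicalKrullDim Z = ((n + 1 : ℕ) : WithBot ℕ∞) := by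
    intro Z hZ
    rw [irreducibleComponents_eq_singleton, Set.mem_singleton_iff] at hZ
    rw [hZ, ← hdP]
    exact (Homeomorph.Set.univ _).isHomeomorph.topologicalKrullDim_eq
  have heff := K318.HypDiv.isEff_hypIdeal F hF
  have hp : IsProper ((hypIdeal F).subschemeι ≫ CohB1.ProjSpace.toSpec (n + 1) k) := inferInstance
  have hN : IsNoetherian (hypIdeal F).subscheme := by
    have h1 : IsLocallyNoetherian (hypIdeal F).subscheme :=
      LocallyOfFiniteType.isLocallyNoetherian (hypIdeal F).subschemeι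
    have h2 : CompactSpace (hypIdeal F).subscheme :=
      QuasiCompact.compactSpace_of_compactSpace (hypIdeal F).subschemeι
    exact {}
  refine K455.RelDim.smoothOfRelativeDimension k _ n fun Z hZ => ?_
  have hreg : ∀ x : (hypIdeal F).subscheme, IsRegularLocalRing ((hypIdeal F).subscheme.presheaf.stalk x) :=
    Lefpen.H705.ClosedPoint.isRegularLocalRing_stalk
      ((hypIdeal F).subschemeι ≫ CohB1.ProjSpace.toSpec (n + 1) k)
  have hdom : ∀ x : (hypIdeal F).subscheme, IsDomain ((hypIdeal F).subscheme.presheaf.stalk x) :=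
    fun x => CalgA.RegBasic.isDomain _
  let U : (hypIdeal F).subscheme.Opens := ⟨Z, CurvesC.NormSections.isOpen_of_mem_irreducibleComponents hdom hZ⟩
  apply le_antisymm
  · refine le_trans ?_ (K455.Pos.dim_le_of_isEff (hypIdeal F) heff n hdP.le)
    exact Topology.IsInducing.subtypeVal.topologicalKrullDim_le
  · obtain ⟨z, hzZ, hz⟩ := IsClosed.exists_closed_singleton (isClosed_of_mem_irreducibleComponents Z hZ)
      hZ.1.nonempty
    refine (le_dim_stalk (k := k) n hcomp (hypIdeal F) heff z hz).trans ?_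
    have h4 : ringKrullDim ((U : Scheme.{u}).presheaf.stalk ⟨z, hzZ⟩) ≤ topologicalKrullDim U := by
      rw [Dix.ContractSurf.topologicalKrullDim_eq (U : Scheme.{u})]
      exact le_iSup (fun z : (U : Scheme.{u}) => ringKrullDim ((U : Scheme.{u}).presheaf.stalk z)) _
    refine le_trans (le_of_eq ?_) h4
    have e := (U.stalkIso ⟨z, hzZ⟩).commRingCatIsoToRingEquiv
    exact (ringKrullDim_eq_of_ringEquiv e).symm

/-- `H¹(X_Ω, G_m)` of a smooth surface in projective three-space is finitely generated and torsion free. -/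
theorem h1Gm_bcField (Ω : Type u) [Field Ω] [Algebra k Ω] [IsAlgClosed Ω] {d : ℕ} (hd : 1 ≤ d)
    (H : Form 3 k d) (hH : H ≠ 0) [Smooth ((hypIdeal H).subschemeι ≫ CohB1.ProjSpace.toSpec 3 k)] :
    AddGroup.FG (EtCoh.H (SGA7.bcField Ω ((hypIdeal H).subschemeι ≫ CohB1.ProjSpace.toSpec 3 k)) (EtCoh.Gm _) 1) ∧
    ∀ (n : ℕ) (x : EtCoh.H (SGA7.bcField Ω ((hypIdeal H).subschemeι ≫ CohB1.ProjSpace.toSpec 3 k)) (EtCoh.Gm _) 1),
      n • x = 0 → n = 0 ∨ x = 0 :=
  have : SmoothOfRelativeDimension 2 ((hypIdeal H).subschemeι ≫ CohB1.ProjSpace.toSpec 3 k) :=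
    relDim_hyp (n := 2) H hH
  K464.PicSurf.h1Gm_bcField Ω hd H

end K464.HypDim
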